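import Cfsg.Agent.SU3Geo98.Orth.Rigid

/-!
The orthogonal subfield group is maximal in `SU₃(q)`, `q ≥ 7` odd (clause 6 of S5777, helper66, after
helper98's dimension four).
-/

set_option autoImplicit false
set_option linter.unusedSectionVars false

namespace Cfsg.Agent.SU3Geo98.Orth

open Matrix Cfsg.Agent.MaxSub Cfsg.Agent.HermStab Cfsg.Agent.SubfieldTwo
open Cfsg.Agent.SU4Geo98.Orth (tor weyl refl refl_mulVec refl_pair_mem)

variable {ι : Type} [Fintype ι] [DecidableEq ι] {F : Type*} [Field F] [Finite F]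
variable {σ : F ≃+* F} {f : (ι → F) → (ι → F) → F} {F₀ : Subfield F} {P : GL ι F} {ε : F}
variable {M : Subgroup (GL ι F)}

local notation:73 g:74 " ◆ " x:73 => (Units.val g) *ᵥ x

variable (C : Ctx σ f F₀ P ε)
include C

/-- An element outside the subfield group moves a rational singular point off the rational
points. -/
theorem exists_nonrat_singular {g : GL ι F} (hg : g ∉ Geo.subfieldSubgroup F₀ P)
    (hgi : g ∈ isom f) :
    ∃ p, Rat F₀ P p ∧ p ≠ 0 ∧ f p p = 0 ∧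
      ∀ (b : F) (w : ι → F), Rat F₀ P w → g ◆ p ≠ b • w := by
  by_contra hcon
  simp only [not_exists, not_and, not_forall, not_not] at hcon
  obtain ⟨p₀, hp₀, hp00, hpp₀, -⟩ := SubfieldOrth.exists_rat_singular C.uf C.idx C.rat C.two
    (![] : Fin 0 → ι → F) (fun i => i.elim0) (by have := C.card; omega)
  obtain ⟨l, w₀, hw₀, hgl⟩ := hcon p₀ hp₀ hp00 hpp₀
  have hl : l ≠ 0 := fun h => mulVec_ne_zero g hp00 (by rw [hgl, h, zero_smul])
  have key : ∀ p p' : ι → F, Rat F₀ P p → p ≠ 0 → f p p = 0 → Rat F₀ P p' → f p p' ≠ 0 →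
      Rat F₀ P (l⁻¹ • (g ◆ p')) → Rat F₀ P (l⁻¹ • (g ◆ p)) := by
    intro p p' hp hp0 hpp hp' hne h'
    obtain ⟨m, w, hw, hgm⟩ := hcon p hp hp0 hpp
    set w' := l⁻¹ • (g ◆ p') with hw'
    have hgp' : g ◆ p' = l • w' := by
      rw [hw', smul_smul, mul_inv_cancel₀ hl, one_smul]
    have h1 := mem_isom.mp hgi p p'
    rw [hgm, hgp', C.uf.smul_left, hsmul_right C.uf] at h1
    have hww : f w w' ≠ 0 := fun h => hne (by rw [← h1, h, mul_zero, mul_zero])
    have h3 : m * σ l ∈ F₀ := by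
      have : m * σ l = f p p' / f w w' := by rw [← h1]; field_simp
      rw [this]; exact div_mem (C.rat _ _ hp hp') (C.rat _ _ hw h')
    have h4 : l * σ l ∈ F₀ :=
      (C.idx.mem_iff _).mpr (by rw [map_mul, C.idx.invol, mul_comm])
    rw [hgm, smul_smul]
    refine rat_smul ?_ hw
    have hsl : σ l ≠ 0 := by simpa using hl
    rw [show l⁻¹ * m = (m * σ l) / (l * σ l) by field_simp]
    exact div_mem h3 h4
  have all : ∀ p, Rat F₀ P p → f p p = 0 → Rat F₀ P (l⁻¹ • (g ◆ p)) := by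
    intro p hp hpp
    by_cases hp0 : p = 0
    · rw [hp0, mulVec_zero, smul_zero]; exact rat_zero
    obtain ⟨e, he, hee, hep, hep'⟩ := exists_third C hp hpp hp0 hp₀ hpp₀ hp00
    have he0 : e ≠ 0 := fun h => hep (by rw [h, hzero_left C.uf])
    refine key p e hp hp0 hpp he (hswap_ne_zero C.uf hep) (key e p₀ he he0 hee hp₀ hep' ?_)
    rw [hgl, smul_smul, inv_mul_cancel₀ hl, one_smul]
    exact hw₀
  refine hg (mem_of_rat (inv_ne_zero hl) fun v hv => ?_)
  by_cases hv0 : v = 0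
  · rw [hv0, mulVec_zero, smul_zero]; exact rat_zero
  obtain ⟨p, hp, hpp, hpv⟩ := exists_nonorth C hv hv0
  obtain ⟨t, ht, hq, hqq⟩ := SubfieldOrth.singular_shift C.uf C.idx C.rat C.two hv hp hpp
    (hswap_ne_zero C.uf hpv)
  have h5 := rat_sub (all _ hq hqq) (rat_smul ht (all p hp hpp))
  rwa [mulVec_add, mulVec_smul, smul_add, smul_comm, add_sub_cancel_right] at h5

theorem refl_rat {c x : ι → F} (hc : Rat F₀ P c) (hcc : f c c ≠ 0) (hx : Rat F₀ P x) :
    Rat F₀ P (refl f c ◆ x) := by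
  rw [refl_mulVec C.uf hcc]
  exact rat_sub hx (rat_smul (div_mem (mul_mem (ofNat_mem F₀ 2) (C.rat x c hx hc))
    (C.rat c c hc hc)) hc)

theorem eps_sq_mem : ε * ε ∈ F₀ :=
  (C.idx.mem_iff _).mpr (by rw [map_mul, C.skew]; ring)

theorem sq_ne {t : F} (ht : t ∈ F₀) : t ^ 2 ≠ ε * ε := fun h => by
  have h1 : (t - ε) * (t + ε) = 0 := by linear_combination h
  have h2 := fix C ht
  rcases mul_eq_zero.mp h1 with h3 | h3
  · rw [sub_eq_zero.mp h3, C.skew] at h2
    exact mul_ne_zero C.two C.eps0 (by linear_combination -h2)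
  · rw [eq_neg_of_add_eq_zero_left h3, map_neg, C.skew] at h2
    exact mul_ne_zero C.two C.eps0 (by linear_combination h2)

/-- A parameter for the auxiliary rotations. -/
theorem exists_param : ∃ s ∈ F₀, s ≠ 0 ∧ s ^ 2 + ε * ε ≠ 0 := by
  obtain ⟨μ, hμ, hμ0, hμ2⟩ := exists_mu C
  by_cases h : (1 : F) + ε * ε = 0
  · exact ⟨μ, hμ, hμ0, fun h' => hμ2 (by linear_combination h' - h)⟩
  · exact ⟨1, one_mem F₀, one_ne_zero, by simpa using h⟩

/-- Two independent vectors never span a totally singular plane. -/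
theorem not_singular_pair {u₁ u₂ : ι → F}
    (hind : ∀ s t : F, s • u₁ + t • u₂ = 0 → s = 0 ∧ t = 0) (hA : f u₁ u₁ = 0)
    (hB : f u₁ u₂ = 0) (hG : f u₂ u₂ = 0) : False := by
  have hB' : f u₂ u₁ = 0 := hswap_zero C.uf hB
  have hK : ∀ v ∈ Submodule.span F ({u₁, u₂} : Set (ι → F)),
      ∀ v' ∈ Submodule.span F ({u₁, u₂} : Set (ι → F)), f v v' = 0 := by
    intro v hv v' hv'
    obtain ⟨a, b, rfl⟩ := Submodule.mem_span_pair.mp hv
    obtain ⟨c, d, rfl⟩ := Submodule.mem_span_pair.mp hv'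
    simp [C.uf.add_left, C.uf.smul_left, hadd_right C.uf, hsmul_right C.uf, hA, hB, hB', hG]
  have h1 := finrank_le_half C.uf hK
  have h2 := finrank_span_eq_card (LinearIndependent.pair_iff.mpr hind)
  have hr : Set.range ![u₁, u₂] = ({u₁, u₂} : Set (ι → F)) := by
    simp [Matrix.range_cons, Set.pair_comm]
  rw [hr, Fintype.card_fin] at h2
  have := C.card
  omega

variable (hM : HasH f F₀ P M) (hN : NoTrans σ f F₀ P M)
include hM hN

theorem no_nonrat {g : GL ι F} (hgM : g ∈ M) (hgi : g ∈ isom f) {a : ι → F} (ha : Rat F₀ P a)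
    (ha0 : a ≠ 0) (haa : f a a = 0)
    (hn : ∀ (b : F) (v : ι → F), Rat F₀ P v → (g⁻¹ : GL ι F) ◆ a ≠ b • v) : False := by
  obtain ⟨u₁, u₂, hu₁, hu₂, hws⟩ := exists_rat_split (P := P) C.idx ((g⁻¹ : GL ι F) ◆ a)
  have hind : ∀ s t : F, s • u₁ + t • u₂ = 0 → s = 0 ∧ t = 0 := by
    intro s t hst
    have hu₁0 : u₁ ≠ 0 := fun h => hn ε u₂ hu₂ (by rw [← hws, h, zero_add])
    by_cases ht : t = 0
    · subst ht
      rw [zero_smul, add_zero] at hst
      exact ⟨(smul_eq_zero.mp hst).resolve_right hu₁0, rfl⟩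
    exfalso
    have h1 : u₂ = (-(t⁻¹ * s)) • u₁ := by
      rw [neg_smul, ← smul_smul, eq_neg_of_add_eq_zero_left hst, smul_neg, neg_neg, smul_smul,
        inv_mul_cancel₀ ht, one_smul]
    obtain ⟨b, v, hv, e⟩ := smul_of_dependent C.idx hu₁ hu₂ h1
    exact hn b v hv (by rw [← hws, e])
  have hgw : g ◆ (u₁ + ε • u₂) = a := by rw [hws, mulVec_inv_mulVec]
  have hg' := mem_isom.mp hgi
  set w := u₁ + ε • u₂ with hwdef
  have hww : f w w = 0 := by rw [← hg', hgw, haa]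
  set A := f u₁ u₁ with hAdef
  set B := f u₁ u₂ with hBdef
  set G := f u₂ u₂ with hGdef
  have hBs : f u₂ u₁ = B := symm C hu₁ hu₂
  have hA : A = ε * ε * G := by
    have h := hww
    simp only [hwdef, C.uf.add_left, hadd_right C.uf, C.uf.smul_left, hsmul_right C.uf, C.skew,
      hBs, ← hAdef, ← hBdef, ← hGdef] at h
    linear_combination h
  have hts : ¬ (G = 0 ∧ B = 0) := fun h => not_singular_pair C hind
    (by rw [← hAdef, hA, h.1, mul_zero]) h.2 h.1
  obtain ⟨s, hs, hs0, hs2⟩ := exists_param C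
  have hGF : G ∈ F₀ := C.rat u₂ u₂ hu₂ hu₂
  have hBF : B ∈ F₀ := C.rat u₁ u₂ hu₁ hu₂
  -- two orthogonal nonsingular vectors of the plane
  obtain ⟨e₁, e₂, he₁, he₂, he₁n, he₂n, he12, hu1e, hu2e, he1u, he2u⟩ :
      ∃ e₁ e₂, Rat F₀ P e₁ ∧ Rat F₀ P e₂ ∧ f e₁ e₁ ≠ 0 ∧ f e₂ e₂ ≠ 0 ∧ f e₁ e₂ = 0 ∧
        (∃ p r : F, u₁ = p • e₁ + r • e₂) ∧ (∃ p r : F, u₂ = p • e₁ + r • e₂) ∧
        (∃ p r : F, e₁ = p • u₁ + r • u₂) ∧ (∃ p r : F, e₂ = p • u₁ + r • u₂) := by
    by_cases hG : G = 0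
    · have hB : B ≠ 0 := fun h => hts ⟨hG, h⟩
      have hA0 : A = 0 := by rw [hA, hG, mul_zero]
      have h2 := C.two
      refine ⟨u₁ + u₂, u₁ - u₂, rat_add hu₁ hu₂, rat_sub hu₁ hu₂, ?_, ?_, ?_,
        ⟨1 / 2, 1 / 2, ?_⟩, ⟨1 / 2, -(1 / 2), ?_⟩, ⟨1, 1, by simp⟩, ⟨1, -1, by
          rw [one_smul, neg_smul, one_smul, sub_eq_add_neg]⟩⟩
      · simp only [C.uf.add_left, hadd_right C.uf, hBs, ← hAdef, ← hBdef, ← hGdef, hA0, hG,
          zero_add, add_zero]
        exact fun h => mul_ne_zero C.two hB (by linear_combination h)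
      · simp only [hsub_left C.uf, hsub_right C.uf, hBs, ← hAdef, ← hBdef, ← hGdef, hA0, hG,
          zero_sub, sub_zero]
        exact fun h => mul_ne_zero C.two hB (by linear_combination -h)
      · simp only [C.uf.add_left, hsub_right C.uf, hBs, ← hAdef, ← hBdef, ← hGdef, hA0, hG]
        ring
      · match_scalars <;> field_simp <;> ring
      · match_scalars <;> field_simp <;> ring
    · set r := B / G with hr
      have hrF : r ∈ F₀ := div_mem hBF hGF
      refine ⟨u₂, u₁ - r • u₂, hu₂, rat_sub hu₁ (rat_smul hrF hu₂), hG, ?_, ?_,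
        ⟨r, 1, by module⟩, ⟨1, 0, by module⟩, ⟨0, 1, by module⟩, ⟨1, -r, by module⟩⟩
      · simp only [hsub_left C.uf, hsub_right C.uf, C.uf.smul_left, hsmul_right C.uf, fix C hrF,
          hBs, ← hAdef, ← hBdef, ← hGdef]
        intro h
        refine sq_ne C hrF ?_
        rw [hA, hr] at h
        rw [hr]
        field_simp at h ⊢
        linear_combination -h
      · simp only [hsub_right C.uf, hsmul_right C.uf, fix C hrF, hBs, ← hGdef]
        rw [hr, div_mul_cancel₀ _ hG, sub_self]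
  have he21 : f e₂ e₁ = 0 := hswap_zero C.uf he12
  -- `-1` on the orthogonal plane
  set r₀ := refl f e₁ * refl f e₂ with hr₀
  have hr₀su : r₀ ∈ su f := refl_pair_mem C.uf he₁n he₂n
  have hr₀M : r₀ ∈ M := hM _ hr₀su fun x hx => by
    rw [hr₀, Units.val_mul, ← mulVec_mulVec]
    exact refl_rat C he₁ he₁n (refl_rat C he₂ he₂n hx)
  have hr₀v : ∀ x, r₀ ◆ x =
      x - (2 * f x e₁ / f e₁ e₁) • e₁ - (2 * f x e₂ / f e₂ e₂) • e₂ := fun x => by
    rw [hr₀, Units.val_mul, ← mulVec_mulVec, refl_mulVec C.uf he₂n,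
      refl_mulVec C.uf he₁n]
    simp only [hsub_left C.uf, C.uf.smul_left, he21, mul_zero, sub_zero]
    module
  have hfixE : ∀ p q : F, r₀ ◆ (p • e₁ + q • e₂) = -(p • e₁ + q • e₂) := fun p q => by
    rw [hr₀v]
    simp only [C.uf.add_left, C.uf.smul_left, he12, he21, mul_zero, add_zero, zero_add]
    match_scalars <;> field_simp <;> ring
  have hru : r₀ ◆ u₁ = -u₁ ∧ r₀ ◆ u₂ = -u₂ := by
    obtain ⟨p, q, h1⟩ := hu1e
    obtain ⟨p', q', h2⟩ := hu2e
    rw [h1, h2]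
    exact ⟨hfixE p q, hfixE p' q'⟩
  set k := g * r₀ * g⁻¹ with hk
  have hkM : k ∈ M := mul_mem (mul_mem hgM hr₀M) (inv_mem hgM)
  have hki : k ∈ isom f := mul_mem (mul_mem hgi hr₀su.1) (inv_mem hgi)
  have kg : ∀ x, k ◆ (g ◆ x) = g ◆ (r₀ ◆ x) := fun x => by
    rw [hk, Units.val_mul, Units.val_mul, ← mulVec_mulVec, ← mulVec_mulVec, inv_mulVec_mulVec]
  have hka : k ◆ a = -a := by
    rw [← hgw, kg, ← mulVec_neg, hwdef, mulVec_add r₀.val, mulVec_smul, hru.1, hru.2, smul_neg, neg_add]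
  have hkr : ∀ x, Rat F₀ P x → Rat F₀ P (k ◆ x) := fun x hx => by
    simpa [smul_smul] using rat_smul (neg_mem (one_mem F₀))
      (rat_of_fix C hM hN ha ha0 haa hkM hki (l := -1) (by rw [neg_one_smul, hka]) x hx)
  -- the fixed space of `k`
  have hinplane : ∀ x, k ◆ x = -x → ∃ p q : F, (g⁻¹ : GL ι F) ◆ x = p • u₁ + q • u₂ := by
    intro x hx
    set v := (g⁻¹ : GL ι F) ◆ x with hv
    have hrv : r₀ ◆ v = -v := by
      refine mulVec_injective g ?_
      show g ◆ (r₀ ◆ v) = g ◆ (-v)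
      rw [← kg, hv, mulVec_neg, mulVec_inv_mulVec, hx]
    rw [hr₀v] at hrv
    obtain ⟨p, q, hpq⟩ := he1u
    obtain ⟨p', q', hpq'⟩ := he2u
    refine ⟨f v e₁ / f e₁ e₁ * p + f v e₂ / f e₂ e₂ * p',
      f v e₁ / f e₁ e₁ * q + f v e₂ / f e₂ e₂ * q', ?_⟩
    have h2 : (2 : F) • v = (2 : F) • ((f v e₁ / f e₁ e₁) • e₁ + (f v e₂ / f e₂ e₂) • e₂) := by
      rw [← sub_eq_zero] at hrv ⊢
      rw [← hrv]
      module
    generalize hα : f v e₁ / f e₁ e₁ = α, hβ : f v e₂ / f e₂ e₂ = β at h2 ⊢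
    rw [smul_right_injective _ C.two h2, hpq, hpq']
    module
  have hk1 : k ◆ (g ◆ u₁) = -(g ◆ u₁) := by rw [kg, hru.1, mulVec_neg]
  have hk2 : k ◆ (g ◆ u₂) = -(g ◆ u₂) := by rw [kg, hru.2, mulVec_neg]
  -- a rational fixed vector not orthogonal to `a`
  obtain ⟨d, hd, hkd, hda⟩ : ∃ d, Rat F₀ P d ∧ k ◆ d = -d ∧ f d a ≠ 0 := by
    obtain ⟨X, hX, hXa⟩ : ∃ X, k ◆ X = -X ∧ f X a ≠ 0 := by
      by_cases h1 : f (g ◆ u₁) a = 0
      · refine ⟨g ◆ u₂, hk2, fun h2 => ?_⟩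
        rw [← hgw, hg'] at h1 h2
        simp only [hwdef, hadd_right C.uf, hsmul_right C.uf, C.skew, hBs, ← hAdef, ← hBdef,
          ← hGdef] at h1 h2
        -- `A = εB` and `B = εG`
        have hB0 : B = 0 := by
          have h3 := congrArg σ (show B = ε * G by linear_combination h2)
          rw [map_mul, C.skew, fix C hBF, fix C hGF] at h3
          exact (mul_eq_zero.mp (show 2 * B = 0 by linear_combination h3 + h2)).resolve_left C.two
        rw [hB0, zero_add, neg_mul, neg_eq_zero, mul_eq_zero] at h2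
        exact hts ⟨h2.resolve_left C.eps0, hB0⟩
      · exact ⟨g ◆ u₁, hk1, h1⟩
    obtain ⟨x₁, x₂, hx₁, hx₂, rfl⟩ := exists_rat_split (P := P) C.idx X
    rw [← sub_eq_zero, mulVec_add, mulVec_smul] at hX
    obtain ⟨q1, q2⟩ := rat_eq_zero_of_add C.idx (rat_add (hkr x₁ hx₁) hx₁)
      (rat_add (hkr x₂ hx₂) hx₂) (by rw [← hX]; module)
    by_cases h1 : f x₁ a = 0
    · refine ⟨x₂, hx₂, eq_neg_of_add_eq_zero_left q2, fun h2 => hXa ?_⟩
      rw [C.uf.add_left, C.uf.smul_left, h1, h2, mul_zero, add_zero]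
    · exact ⟨x₁, hx₁, eq_neg_of_add_eq_zero_left q1, h1⟩
  obtain ⟨τ, hτ, hb', hbb'⟩ := SubfieldOrth.singular_shift C.uf C.idx C.rat C.two hd ha haa hda
  set b := (f d a)⁻¹ • (d + τ • a) with hb
  have hbr : Rat F₀ P b := rat_smul (inv_mem (C.rat d a hd ha)) hb'
  have hbb : f b b = 0 := by rw [hb, C.uf.smul_left, hsmul_right C.uf, hbb']; simp
  have hba : f b a = 1 := by
    rw [hb, C.uf.smul_left, C.uf.add_left, C.uf.smul_left, haa, mul_zero, add_zero,
      inv_mul_cancel₀ hda]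
  have hkb : k ◆ b = -b := by
    rw [hb, mulVec_smul, mulVec_add, mulVec_smul, hkd, hka, smul_neg, ← neg_add, smul_neg]
  obtain ⟨γ, δ, hw₂⟩ := hinplane b hkb
  set w₂ := (g⁻¹ : GL ι F) ◆ b with hw₂def
  have hD : δ - ε * γ ≠ 0 := by
    intro h0
    have h1 : w₂ = γ • w := by
      rw [hw₂, hwdef, sub_eq_zero.mp h0]
      module
    have h2 : f w₂ w = 1 := by rw [← hg', hw₂def, mulVec_inv_mulVec, hgw, hba]
    rw [h1, C.uf.smul_left, hww, mul_zero] at h2
    exact zero_ne_one h2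
  -- the rotation of the plane
  obtain ⟨c₁, c₂, hc₁, hc₂, hc₁n, hc₂n, him, hc₁u, hc₂u⟩ :
      ∃ c₁ c₂, Rat F₀ P c₁ ∧ Rat F₀ P c₂ ∧ f c₁ c₁ ≠ 0 ∧ f c₂ c₂ ≠ 0 ∧
        f c₁ c₂ * (f u₁ c₁ * f u₂ c₂ - f u₂ c₁ * f u₁ c₂) ≠ 0 ∧
        (∃ p q : F, c₁ = p • u₁ + q • u₂) ∧ (∃ p q : F, c₂ = p • u₁ + q • u₂) := by
    by_cases hG : G = 0
    · have hB : B ≠ 0 := fun h => hts ⟨hG, h⟩
      have hA0 : A = 0 := by rw [hA, hG, mul_zero]
      obtain ⟨μ, hμ, hμ0, hμ2⟩ := exists_mu C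
      refine ⟨u₁ + u₂, u₁ + μ • u₂, rat_add hu₁ hu₂, rat_add hu₁ (rat_smul hμ hu₂), ?_, ?_, ?_,
        ⟨1, 1, by simp⟩, ⟨1, μ, by simp⟩⟩
      all_goals simp only [C.uf.add_left, hadd_right C.uf, C.uf.smul_left, hsmul_right C.uf,
        fix C hμ, hBs, ← hAdef, ← hBdef, ← hGdef, hA0, hG, mul_zero, zero_add, add_zero]
      · exact fun h => mul_ne_zero C.two hB (by linear_combination h)
      · exact fun h => mul_ne_zero (mul_ne_zero C.two hμ0) hB (by linear_combination h)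
      · intro h
        apply mul_ne_zero (mul_ne_zero (mul_ne_zero hB hB) hB) (sub_ne_zero.mpr hμ2)
        linear_combination -h
    · have hd0 : ε * ε ≠ 0 := mul_ne_zero C.eps0 C.eps0
      have hBG : ε * ε * G ^ 2 - B ^ 2 ≠ 0 := by
        intro h
        refine sq_ne C (div_mem hBF hGF) ?_
        field_simp
        linear_combination -h
      by_cases hB : B = 0
      · refine ⟨u₁, u₁ + s • u₂, hu₁, rat_add hu₁ (rat_smul hs hu₂), ?_, ?_, ?_,
          ⟨1, 0, by simp⟩, ⟨1, s, by simp⟩⟩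
        all_goals simp only [C.uf.add_left, hadd_right C.uf, C.uf.smul_left, hsmul_right C.uf,
          fix C hs, hBs, ← hAdef, ← hBdef, ← hGdef, hA, hB, mul_zero, zero_add, add_zero]
        · exact mul_ne_zero hd0 hG
        · exact fun h => mul_ne_zero hs2 hG (by linear_combination h)
        · exact fun h => mul_ne_zero (mul_ne_zero (mul_ne_zero hd0 hd0)
            (mul_ne_zero (mul_ne_zero hG hG) hG)) hs0 (by linear_combination h)
      · refine ⟨u₁, u₂, hu₁, hu₂, ?_, hG, ?_, ⟨1, 0, by simp⟩, ⟨0, 1, by simp⟩⟩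
        · rw [← hAdef, hA]; exact mul_ne_zero hd0 hG
        · rw [hBs, ← hAdef, ← hBdef, ← hGdef, hA]
          exact mul_ne_zero hB fun h => hBG (by linear_combination h)
  set t := refl f c₁ * refl f c₂ with ht
  have htsu : t ∈ su f := refl_pair_mem C.uf hc₁n hc₂n
  have htM : t ∈ M := hM _ htsu fun x hx => by
    rw [ht, Units.val_mul, ← mulVec_mulVec]
    exact refl_rat C hc₁ hc₁n (refl_rat C hc₂ hc₂n hx)
  set m := g * t * g⁻¹ with hm
  have hfix : ∀ z, Rat F₀ P z → f z a = 0 → f z b = 0 → m ◆ z = z := by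
    intro z hz hza hzb
    set v := (g⁻¹ : GL ι F) ◆ z with hv
    have h1 : f v w = 0 := by rw [← hg', hv, mulVec_inv_mulVec, hgw, hza]
    have h2 : f v w₂ = 0 := by rw [← hg', hv, mulVec_inv_mulVec, hw₂def, mulVec_inv_mulVec, hzb]
    rw [hw₂] at h2
    simp only [hwdef, hadd_right C.uf, hsmul_right C.uf] at h1 h2
    have h3 : f v u₂ = 0 := by
      have : σ (δ - ε * γ) * f v u₂ = 0 := by
        rw [map_sub, map_mul]
        linear_combination h2 - σ γ * h1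
      exact (mul_eq_zero.mp this).resolve_left ((map_ne_zero σ).mpr hD)
    rw [h3, mul_zero, add_zero] at h1
    have hperp : ∀ c, (∃ p q : F, c = p • u₁ + q • u₂) → f v c = 0 := by
      rintro c ⟨p, q, rfl⟩
      rw [hadd_right C.uf, hsmul_right C.uf, hsmul_right C.uf, h1, h3, mul_zero, mul_zero,
        add_zero]
    rw [hm, Units.val_mul, Units.val_mul, ← mulVec_mulVec, ← mulVec_mulVec, ← hv, ht,
      Units.val_mul, ← mulVec_mulVec, refl_mulVec C.uf hc₂n, hperp _ hc₂u, mul_zero, zero_div,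
      zero_smul, sub_zero, refl_mulVec C.uf hc₁n, hperp _ hc₁u, mul_zero, zero_div,
      zero_smul, sub_zero, hv, mulVec_inv_mulVec]
  have hreal := key C hM hN ha hbr ha0 haa hbb hba (mul_mem (mul_mem hgM htM) (inv_mem hgM))
    (mul_mem (mul_mem hgi htsu.1) (inv_mem hgi)) hfix
  have hval : f a (m ◆ a) = f w (t ◆ w) := by
    rw [← hgw, hm, Units.val_mul, Units.val_mul, ← mulVec_mulVec, ← mulVec_mulVec,
      inv_mulVec_mulVec, hg']
  rw [hval] at hreal
  set γ₁ := f c₁ c₁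
  set γ₂ := f c₂ c₂
  have hform : f w (t ◆ w) = -(2 * (f w c₁ * σ (f w c₁)) / γ₁)
      - 2 * (f w c₂ * σ (f w c₂)) / γ₂
      + 4 * (f c₁ c₂ * (f w c₁ * σ (f w c₂))) / (γ₁ * γ₂) := by
    rw [ht, Units.val_mul, ← mulVec_mulVec, refl_mulVec C.uf hc₂n, refl_mulVec C.uf hc₁n]
    simp only [hsub_left C.uf, C.uf.smul_left, hsub_right C.uf, hsmul_right C.uf, map_div₀,
      map_mul, map_sub, map_ofNat, hww, fix C (C.rat c₁ c₁ hc₁ hc₁),
      fix C (C.rat c₂ c₂ hc₂ hc₂), symm C hc₁ hc₂, fix C (C.rat c₁ c₂ hc₁ hc₂), γ₁, γ₂]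
    field_simp
    ring
  have e1 : f w c₁ = f u₁ c₁ + ε * f u₂ c₁ := by rw [hwdef, C.uf.add_left, C.uf.smul_left]
  have e2 : f w c₂ = f u₁ c₂ + ε * f u₂ c₂ := by rw [hwdef, C.uf.add_left, C.uf.smul_left]
  rw [hform, e1, e2] at hreal
  simp only [map_add, map_sub, map_neg, map_div₀, map_mul, map_ofNat, C.skew,
    fix C (C.rat c₁ c₁ hc₁ hc₁), fix C (C.rat c₂ c₂ hc₂ hc₂), fix C (C.rat c₁ c₂ hc₁ hc₂),
    fix C (C.rat u₁ c₁ hu₁ hc₁), fix C (C.rat u₂ c₁ hu₂ hc₁), fix C (C.rat u₁ c₂ hu₁ hc₂),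
    fix C (C.rat u₂ c₂ hu₂ hc₂), γ₁, γ₂] at hreal
  have h9 : 8 * ε * (f c₁ c₂ * (f u₁ c₁ * f u₂ c₂ - f u₂ c₁ * f u₁ c₂)) /
      (f c₁ c₁ * f c₂ c₂) = 0 := by linear_combination hreal
  rcases div_eq_zero_iff.mp h9 with h10 | h10
  · exact mul_ne_zero (mul_ne_zero (mul_ne_zero (mul_ne_zero C.two C.two) C.two) C.eps0) him
      (by linear_combination h10)
  · exact mul_ne_zero hc₁n hc₂n h10

omit hN in
theorem orth_centre_all {g : GL ι F} (hgM : g ∈ M) (hgi : g ∈ isom f)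
    (hg : g ∉ Geo.subfieldSubgroup F₀ P) : ∀ v, f v v = 0 → Centre σ f M v := by
  by_cases hN : NoTrans σ f F₀ P M
  · exfalso
    obtain ⟨a, ha, ha0, haa, hn⟩ := exists_nonrat_singular C (g := g⁻¹)
      (fun h => hg (by simpa using inv_mem h)) (inv_mem hgi)
    exact no_nonrat C hM hN hgM hgi ha ha0 haa hn
  · simp only [NoTrans, not_forall, not_not] at hN
    obtain ⟨a, ha, ha0, hca⟩ := hN
    exact centre_all C hM ha ha0 hca

end Cfsg.Agent.SU3Geo98.Orth

namespace Cfsg.Agent.SU3Geo98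

open Matrix Cfsg.Agent.MaxSub Cfsg.Agent.HermStab Cfsg.Agent.SubfieldTwo

/-- Clause 6 of S5777. -/
theorem orth_maximal {F : Type*} [Field F] [Fintype F] (q : ℕ) (hF : Fintype.card F = q ^ 2) (_hq : 3 ≤ q) :
    (Odd q → 7 ≤ q → ∀ (F₀ : Subfield F) (P : Matrix.GeneralLinearGroup (Fin 3) F), Fintype.card F = Nat.card F₀ ^ 2 → Cfsg.Geo.IsFormRationalStructure (Cfsg.hermForm 3 F q) F₀ 1 P → Cfsg.Geo.IsMaximalIn (Cfsg.GU 3 F q ⊓ Cfsg.Geo.specialLinear (Fin 3) F) (Cfsg.Geo.subfieldSubgroup F₀ P ⊓ (Cfsg.GU 3 F q ⊓ Cfsg.Geo.specialLinear (Fin 3) F))) := by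
  intro hodd h7 F₀ P hcard hP
  classical
  obtain ⟨σ, hσ, hf⟩ := HermStab.exists_setup (n := 3) hF
  have hq : Nat.card F₀ = q := Nat.pow_left_injective two_ne_zero (hcard.symm.trans hF)
  have hfix : ∀ a : F, a ∈ F₀ ↔ σ a = a := fun a => by
    haveI := Fintype.ofFinite F₀
    have hle : ∀ b ∈ F₀, σ b = b := fun b hb => by
      have h := congrArg Subtype.val (FiniteField.pow_card (⟨b, hb⟩ : F₀))
      rw [← Nat.card_eq_fintype_card, hq] at h
      rw [hσ]
      simpa using h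
    refine ⟨hle a, fun ha => ?_⟩
    let φ : F₀ → {x : F // x ^ q = x} := fun b => ⟨b, by rw [← hσ]; exact hle b b.2⟩
    have hinj : Function.Injective φ := fun b c h => by
      simpa [φ] using h
    obtain ⟨b, hb⟩ := (Nat.bijective_iff_injective_and_card φ).mpr
      ⟨hinj, by rw [hq, Unitary.card_fixed hF]⟩ |>.surjective ⟨a, by rw [← hσ]; exact ha⟩
    have hb' : (b : F) = a := congrArg Subtype.val hb
    exact hb' ▸ b.2
  have h2 : (2 : F) ≠ 0 := fun h => by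
    have := CharP.ringChar_of_prime_eq_zero (R := F) Nat.prime_two (by exact_mod_cast h)
    have hev : Even (Fintype.card F) := by
      rw [Nat.even_iff]; exact FiniteField.even_card_iff_char_two.mp this
    rw [hF, Nat.even_pow] at hev
    exact Nat.not_odd_iff_even.mpr hev.1 hodd
  obtain ⟨ε, hε0, hεs⟩ := exists_skew hf
  have hskew : σ ε = -ε := eq_neg_of_add_eq_zero_right hεs
  have hεne : σ ε ≠ ε := fun h => mul_ne_zero h2 hε0 (by linear_combination hεs - h)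
  have hd : IsIndexTwo F₀ σ ε := ⟨hfix, hf.involutive, hεne⟩
  have hrat : ∀ x y, Rat F₀ P x → Rat F₀ P y → Cfsg.hermForm 3 F q x y ∈ F₀ := fun x y hx hy => by
    obtain ⟨u, hu, rfl⟩ := rat_iff.mp hx
    obtain ⟨w, hw, rfl⟩ := rat_iff.mp hy
    simpa using hP u w hu hw
  have hbig : ∃ ν : F, ν ∈ F₀ ∧ ν ≠ 0 ∧ ν ^ 4 ≠ 1 := by
    haveI := Fintype.ofFinite F₀
    classical
    have h : (insert (0 : F₀) ((Polynomial.nthRoots 4 (1 : F₀)).toFinset)).card <
        (Finset.univ : Finset F₀).card := by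
      have h1 := Finset.card_insert_le (0 : F₀) ((Polynomial.nthRoots 4 (1 : F₀)).toFinset)
      have h2 := Multiset.toFinset_card_le (Polynomial.nthRoots 4 (1 : F₀))
      have h3 := Polynomial.card_nthRoots 4 (1 : F₀)
      rw [Finset.card_univ, ← Nat.card_eq_fintype_card, hq]
      omega
    obtain ⟨ν, -, hν⟩ := Finset.exists_mem_notMem_of_card_lt_card h
    simp only [Finset.mem_insert, Multiset.mem_toFinset, not_or,
      Polynomial.mem_nthRoots (show 0 < 4 by norm_num)] at hν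
    exact ⟨ν, ν.2, fun h => hν.1 (Subtype.ext h), fun h => hν.2 (Subtype.ext (by simpa using h))⟩
  have C : Orth.Ctx σ (Cfsg.hermForm 3 F q) F₀ P ε :=
    ⟨hf, hd, hrat, h2, by simp, hε0, hskew, hbig⟩
  rw [← HermStab.su_eq]
  refine MaxSub.isMaximalIn_of inf_le_right ?_ fun M hHM hMG g hg hgH => ?_
  · -- a transvection at a rational singular vector
    obtain ⟨a, ha, ha0, haa, -⟩ := SubfieldOrth.exists_rat_singular hf hd hrat h2
      (![] : Fin 0 → Fin 3 → F) (fun i => i.elim0) (by simp)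
    obtain ⟨c, hc0, hc⟩ := MaxSub.exists_skew hf
    refine ⟨MaxSub.ut (Cfsg.hermForm 3 F q) a c, HermStab.ut_mem_su hf haa hc, fun h => ?_⟩
    obtain ⟨l, hl, hlg⟩ := rat_of_mem h.1
    obtain ⟨x, hx, -, hxa⟩ := SubfieldOrth.exists_rat_dual hf hd hrat
      (![] : Fin 0 → Fin 3 → F) (fun i => i.elim0) (y := a) (by simpa using ha0)
    have hla := hlg a ha
    rw [MaxSub.ut_mulVec hf haa, haa, mul_zero, zero_smul, add_zero] at hla
    have hr := hlg x hx
    rw [MaxSub.ut_mulVec hf haa] at hr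
    have hlF : l ∈ F₀ := Orth.scal_real C ha ha0 hla
    have h3 := rat_sub hr (rat_smul hlF hx)
    rw [smul_add, add_sub_cancel_left, smul_smul] at h3
    have h4 := Orth.scal_real C ha ha0 h3
    have h5 := mul_mem h4 (inv_mem (mul_mem hlF (hrat x a hx ha)))
    rw [show l * (c * Cfsg.hermForm 3 F q x a) * (l * Cfsg.hermForm 3 F q x a)⁻¹ = c by
      field_simp] at h5
    rw [(hfix c).mp h5] at hc
    exact hc0 ((mul_eq_zero.mp (by linear_combination hc : (2 : F) * c = 0)).resolve_left h2)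
  · have hall := Orth.orth_centre_all C
      (fun k hk hkr => hHM ⟨mem_of_rat one_ne_zero (fun x hx => by rw [one_smul]; exact hkr x hx),
        hk⟩) hg (hMG hg).1 fun h => hgH ⟨h, hMG hg⟩
    rw [HermStab.su_eq]
    refine LagPair.le_of_T_mem hF (by omega) fun v a hv ha => ?_
    have e : LagPair.T (Cfsg.hermForm 3 F q) v a = MaxSub.ut (Cfsg.hermForm 3 F q) v a :=
      gl_ext fun x => by
        rw [LagPair.T_mulVec (LagPair.isPairForm_herm hF) hv, MaxSub.ut_mulVec hf hv]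
    rw [e]
    refine (hall v hv).2 a ?_
    have : Unitary.conjHom hF a = σ a := by rw [hσ]; rfl
    rw [this] at ha
    linear_combination -ha

end Cfsg.Agent.SU3Geo98
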