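import Cfsg.Agent.SU3Geo98.Orth.Exist

/-!
Without transvections at rational singular points: elements fixing such a point are rational, and
the rigidity of hyperbolic lines (helper66, after helper98).
-/

set_option autoImplicit false
set_option linter.unusedSectionVars false

namespace Cfsg.Agent.SU3Geo98.Orth

open Matrix Cfsg.Agent.MaxSub Cfsg.Agent.HermStab Cfsg.Agent.SubfieldTwo
open Cfsg.Agent.SubfieldOrth (InA qe_conj)
open Cfsg.Agent.SU4Geo98.Orth (tor weyl refl tor_mulVec tor_mem tor_mem_su tor_eq_qe qe_smul refl_mulVec refl_pair_mem)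

variable {ι : Type} [Fintype ι] [DecidableEq ι] {F : Type*} [Field F] [Finite F]
variable {σ : F ≃+* F} {f : (ι → F) → (ι → F) → F} {F₀ : Subfield F} {P : GL ι F} {ε : F}
variable {M : Subgroup (GL ι F)}

local notation:73 g:74 " ◆ " x:73 => (Units.val g) *ᵥ x

/-- `M` has no transvection group at a rational singular point. -/
def NoTrans (σ : F ≃+* F) (f : (ι → F) → (ι → F) → F) (F₀ : Subfield F) (P : GL ι F)
    (M : Subgroup (GL ι F)) : Prop :=
  ∀ a, Rat F₀ P a → a ≠ 0 → ¬ Centre σ f M a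

/-- The monomial element of two Siegel groups. -/
noncomputable def siegel (f : (ι → F) → (ι → F) → F) (p c z : ι → F) : GL ι F :=
  qe f p z (-f z z / 2) * qe f c ((2 / f z z) • z) (-(2 / f z z)) * qe f p z (-f z z / 2)

variable (C : Ctx σ f F₀ P ε)
include C

theorem scal_real {x : ι → F} (hx : Rat F₀ P x) (hx0 : x ≠ 0) {r : F}
    (hr : Rat F₀ P (r • x)) : r ∈ F₀ := by
  obtain ⟨i, hi⟩ : ∃ i, ((P⁻¹ : GL ι F) ◆ x) i ≠ 0 := by
    by_contra h
    simp only [not_exists, not_not] at h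
    exact mulVec_ne_zero P⁻¹ hx0 (funext h)
  have h1 := hr i
  rw [mulVec_smul, Pi.smul_apply, smul_eq_mul] at h1
  have := mul_mem h1 (inv_mem (hx i))
  rwa [mul_inv_cancel_right₀ hi] at this

theorem skew_eps : ε + σ ε = 0 := by rw [C.skew]; ring

theorem siegel_apply {p c z : ι → F} (hp : f p p = 0) (hc : f c c = 0) (hcp : f c p = 1)
    (hzp : f z p = 0) (hzc : f z c = 0) (hz : f z z ≠ 0) :
    siegel f p c z ◆ p = (-(2 / f z z)) • c ∧ siegel f p c z ◆ c = (-(f z z / 2)) • p := by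
  have hpc : f p c = 1 := by rw [C.uf.herm, hcp, map_one]
  have hpz : f p z = 0 := hswap_zero C.uf hzp
  have hcz : f c z = 0 := hswap_zero C.uf hzc
  have hγ : σ (f z z) = f z z := (C.uf.herm z z).symm
  have h2 := C.two
  have hz' : f ((2 / f z z) • z) c = 0 := by rw [C.uf.smul_left, hzc, mul_zero]
  constructor <;>
  · rw [siegel, Units.val_mul, Units.val_mul, ← mulVec_mulVec, ← mulVec_mulVec,
      qe_mulVec C.uf hp hzp, qe_mulVec C.uf hc hz', qe_mulVec C.uf hp hzp]
    simp only [C.uf.add_left, hsub_left C.uf, C.uf.smul_left, hsmul_right C.uf, map_div₀,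
      map_ofNat, hγ, hp, hc, hcp, hzp, hzc, hpc, hpz, hcz]
    match_scalars <;> field_simp <;> ring

variable (hM : HasH f F₀ P M)
include hM

theorem centre_of_one {a : ι → F} (ha : Rat F₀ P a) (ha0 : a ≠ 0) (haa : f a a = 0) {c : F}
    (hc0 : c ≠ 0) (hc : c + σ c = 0) (hu : ut f a c ∈ M) : Centre σ f M a := by
  obtain ⟨e, he, hee, hea⟩ := exists_mate C ha ha0
  have hae : f a e = 1 := by rw [← symm C ha he, hea]
  have hsq : ∀ r ∈ F₀, ut f a (c * r ^ 2) ∈ M := by
    intro r hr
    by_cases hr0 : r = 0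
    · subst hr0
      rw [ut]
      simp
    have hk := tor_mem_rat C hM ha he haa hee hea hr hr0
    have hki := (tor_mem_su C.uf haa hee (skew_eps C) (fix C hr)).1
    have h1 := mul_mem (mul_mem hk hu) (inv_mem hk)
    have himg : tor f a e ε r ◆ a = r • a := by
      rw [tor_mulVec C.uf haa hee hea C.eps0 hr0, haa, hae]
      match_scalars <;> ring
    have e1 : tor f a e ε r * ut f a c * (tor f a e ε r)⁻¹ = ut f a (c * r ^ 2) := by
      rw [mul_inv_eq_iff_eq_mul]
      refine gl_ext fun x => ?_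
      have h2 := mem_isom.mp hki x a
      rw [himg, hsmul_right C.uf, fix C hr] at h2
      rw [Units.val_mul, ← mulVec_mulVec, Units.val_mul, ← mulVec_mulVec, ut_mulVec C.uf haa,
        ut_mulVec C.uf haa, mulVec_add, mulVec_smul, himg, ← h2]
      module
    rwa [e1] at h1
  refine ⟨haa, fun d hd => ?_⟩
  set r := d / c with hr
  have hrF : r ∈ F₀ := (C.idx.mem_iff _).mpr (by
    rw [hr, map_div₀, eq_neg_of_add_eq_zero_right hd, eq_neg_of_add_eq_zero_right hc,
      neg_div_neg_eq])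
  have h1 := mul_mem (hsq _ (div_mem (add_mem (one_mem F₀) hrF) (ofNat_mem F₀ 2)))
    (inv_mem (hsq _ (div_mem (sub_mem (one_mem F₀) hrF) (ofNat_mem F₀ 2))))
  convert! h1 using 1
  rw [eq_mul_inv_iff_mul_eq]
  refine gl_ext fun x => ?_
  rw [Units.val_mul, ← mulVec_mulVec, ut_mulVec C.uf haa, ut_mulVec C.uf haa, ut_mulVec C.uf haa,
    C.uf.add_left, C.uf.smul_left, haa]
  have h2 := C.two
  rw [hr]
  match_scalars <;> field_simp <;> ring

variable (hN : NoTrans σ f F₀ P M)
include hN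

theorem no_ut {a : ι → F} (ha : Rat F₀ P a) (ha0 : a ≠ 0) (haa : f a a = 0) {c : F}
    (hc : c + σ c = 0) (hu : ut f a c ∈ M) : c = 0 :=
  by_contra fun h => hN a ha ha0 (centre_of_one C hM ha ha0 haa h hc hu)

theorem inA_rigid {a z : ι → F} (ha : Rat F₀ P a) (ha0 : a ≠ 0) (haa : f a a = 0)
    (hz : InA σ f M a z) : ∃ x, Rat F₀ P x ∧ f x a = 0 ∧ ∃ s : F, z = x + s • a := by
  obtain ⟨x, y, hx, hy, rfl⟩ := exists_rat_split (P := P) C.idx z
  obtain ⟨hxa, hya⟩ := SubfieldOrth.split_zero C.uf C.idx C.rat hx hy ha hz.1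
  obtain ⟨e, he, hee, hea⟩ := exists_mate C ha ha0
  have hae : f a e = 1 := by rw [← symm C ha he, hea]
  have hY : InA σ f M a (ε • y) := by
    have := SubfieldOrth.inA_sub C.uf haa hz (inA_rat C hM ha haa hx hxa)
    rwa [add_sub_cancel_left] at this
  have hzero : ∀ b, Rat F₀ P b → f b a = 0 → f y b = 0 := by
    intro b hb hba
    obtain ⟨hza, c, hc, hcM⟩ := hY
    obtain ⟨-, c', hc', hc'M⟩ := inA_rat C hM ha haa hb hba
    have h9 := SubfieldOrth.qe_mul C.uf haa hza hba c c'
    have h10 := SubfieldOrth.qe_mul C.uf haa hba hza c' c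
    rw [add_comm b (ε • y)] at h10
    have hsum : f (ε • y + b) a = 0 := by rw [C.uf.add_left, hza, hba, add_zero]
    have h11 := SubfieldOrth.inA_skew C.uf haa hsum (z := ε • y + b)
      (b := c + c' - f b (ε • y)) (c := c' + c - f (ε • y) b) (by
        rw [map_sub, map_add, ← C.uf.herm, C.uf.add_left, hadd_right C.uf, hadd_right C.uf]
        linear_combination hc + hc')
      (h9 ▸ mul_mem hcM hc'M) (h10 ▸ mul_mem hc'M hcM)
    have hd : c + c' - f b (ε • y) - (c' + c - f (ε • y) b) = 2 * ε * f y b := by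
      rw [hsmul_right C.uf, C.skew, C.uf.smul_left, symm C hy hb]
      ring
    rw [hd] at h11
    have h0 := no_ut C hM hN ha ha0 haa (by
      rw [map_mul, map_mul, map_ofNat, C.skew, fix C (C.rat y b hy hb)]; ring) h11
    exact (mul_eq_zero.mp h0).resolve_left (mul_ne_zero C.two C.eps0)
  have hy' : y = f y e • a := by
    refine sub_eq_zero.mp (eq_zero_of_perp C fun X hX => ?_)
    obtain ⟨hbr, hba, hbe⟩ := rat_decomp C ha he haa hee hea hX
    have h := hzero _ hbr hba
    simp only [hsub_right C.uf, hsmul_right C.uf, hya, fix C (C.rat X e hX he),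
      fix C (C.rat X a hX ha), mul_zero, sub_zero] at h
    rw [hsub_right C.uf, hsmul_right C.uf, fix C (C.rat y e hy he), symm C hy hX]
    linear_combination h
  refine ⟨x, hx, hxa, ε * f y e, ?_⟩
  conv_lhs => rw [hy', smul_smul]

/-- An element fixing a rational singular point is rational up to a scalar. -/
theorem rat_of_fix {a : ι → F} (ha : Rat F₀ P a) (ha0 : a ≠ 0) (haa : f a a = 0) {k : GL ι F}
    (hk : k ∈ M) (hki : k ∈ isom f) {l : F} (hka : k ◆ a = l • a) :
    ∀ x, Rat F₀ P x → Rat F₀ P (σ l • (k ◆ x)) := by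
  obtain ⟨μ, hμ, hμ0, hμ2⟩ := exists_mu C
  have hμσ := fix C hμ
  have hμ1 : μ - 1 ≠ 0 := fun h => hμ2 (by rw [sub_eq_zero.mp h, one_pow])
  have hl : l ≠ 0 := fun h => mulVec_ne_zero k ha0 (by rw [hka, h, zero_smul])
  have hl' : σ l ≠ 0 := (map_ne_zero σ).mpr hl
  obtain ⟨e, he, hee, hea⟩ := exists_mate C ha ha0
  have hae : f a e = 1 := by rw [← symm C ha he, hea]
  have hc := skew_eps C
  -- the torus at a second mate differs by a radical element
  have diff : ∀ e', f e' e' = 0 → f e' a = 1 → tor f a e' ε μ ∈ M →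
      qe f a ((μ - 1) • (e - e')) ((μ - 1) ^ 2 * f e e') ∈ M := by
    intro e' he' hea' hT
    rw [tor_eq_qe C.uf haa hee he' hea hea' C.eps0 hμ0 hμσ] at hT
    have := mul_mem hT (inv_mem (tor_mem_rat C hM ha he haa hee hea hμ hμ0))
    rwa [mul_inv_cancel_right] at this
  have moved : ∀ k ∈ M, k ∈ isom f → k ◆ a = l • a →
      tor f a (σ l • (k ◆ e)) ε μ ∈ M ∧ f (σ l • (k ◆ e)) (σ l • (k ◆ e)) = 0 ∧
        f (σ l • (k ◆ e)) a = 1 := by
    intro k hk hki hka
    have h1 : f (σ l • (k ◆ e)) a = 1 := by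
      rw [C.uf.smul_left, ← hea, ← mem_isom.mp hki e a, hka, hsmul_right C.uf]
    have h2 : f (σ l • (k ◆ e)) (σ l • (k ◆ e)) = 0 := by
      rw [C.uf.smul_left, hsmul_right C.uf, mem_isom.mp hki, hee, mul_zero, mul_zero]
    refine ⟨?_, h2, h1⟩
    have h3 := mul_mem (mul_mem hk (tor_mem_rat C hM ha he haa hee hea hμ hμ0)) (inv_mem hk)
    convert! h3 using 1
    rw [eq_mul_inv_iff_mul_eq]
    refine gl_ext fun x => ?_
    have e1 : f (k ◆ x) (σ l • (k ◆ e)) = l * f x e := by
      rw [hsmul_right C.uf, C.uf.involutive, mem_isom.mp hki]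
    have e2 : f x a = σ l * f (k ◆ x) a := by
      rw [← hsmul_right C.uf, ← hka, mem_isom.mp hki]
    rw [Units.val_mul, ← mulVec_mulVec, Units.val_mul, ← mulVec_mulVec,
      tor_mulVec C.uf haa h2 h1 C.eps0 hμ0, tor_mulVec C.uf haa hee hea C.eps0 hμ0, e1, e2,
      mulVec_add, mulVec_add, mulVec_smul, mulVec_smul, hka]
    module
  -- the radical component
  obtain ⟨hT, h11, h1a⟩ := moved k hk hki hka
  set e₁ := σ l • (k ◆ e) with he₁
  have hz1 : InA σ f M a ((μ - 1) • (e - e₁)) := by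
    refine ⟨by rw [C.uf.smul_left, hsub_left C.uf, hea, h1a, sub_self, mul_zero], _, ?_,
      diff e₁ h11 h1a hT⟩
    simp only [C.uf.smul_left, hsmul_right C.uf, hsub_left C.uf, hsub_right C.uf, hee, h11,
      map_mul, map_pow, map_sub, map_one, hμσ, ← C.uf.herm]
    ring
  obtain ⟨x₀, hx₀, hx₀a, s, hs⟩ := inA_rigid C hM hN ha ha0 haa hz1
  set z₀ := (-(μ - 1)⁻¹) • x₀ with hz₀
  have hz₀r : Rat F₀ P z₀ := rat_smul (neg_mem (inv_mem (sub_mem hμ (one_mem F₀)))) hx₀
  have hz₀a : f z₀ a = 0 := by rw [hz₀, C.uf.smul_left, hx₀a, mul_zero]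
  have he₁' : e₁ = e + z₀ + (-(μ - 1)⁻¹ * s) • a := by
    have h := congrArg (fun v => (μ - 1)⁻¹ • v) hs
    simp only [smul_smul, inv_mul_cancel₀ hμ1, one_smul, smul_add] at h
    rw [hz₀, show e₁ = e - (e - e₁) by abel, h]
    module
  set β := -f z₀ z₀ / 2 with hβ
  have hβF : β ∈ F₀ := div_mem (neg_mem (C.rat z₀ z₀ hz₀r hz₀r)) (ofNat_mem F₀ 2)
  have hu : qe f a z₀ β ∈ M := qe_mem C hM ha hz₀r haa hz₀a
  have hui : qe f a z₀ β ∈ isom f :=
    (qe_mem_su C.uf haa hz₀a (SubfieldOrth.half_trace C.uf C.idx C.rat hz₀r C.two)).1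
  have hua : qe f a z₀ β ◆ a = a := by
    rw [qe_mulVec C.uf haa hz₀a, haa, hswap_zero C.uf hz₀a]
    module
  set k' := (qe f a z₀ β)⁻¹ * k with hk'
  have hk'M : k' ∈ M := mul_mem (inv_mem hu) hk
  have hk'i : k' ∈ isom f := mul_mem (inv_mem hui) hki
  have hk'a : k' ◆ a = l • a := by
    have h0 := inv_mulVec_mulVec (qe f a z₀ β) a
    rw [hua] at h0
    rw [hk', Units.val_mul, ← mulVec_mulVec, hka, mulVec_smul, h0]
  set c₁ := -(μ - 1)⁻¹ * s - β + f e z₀ with hc₁
  have he₂ : σ l • (k' ◆ e) = e + c₁ • a := by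
    refine mulVec_injective (qe f a z₀ β) ?_
    show qe f a z₀ β ◆ (σ l • (k' ◆ e)) = qe f a z₀ β ◆ (e + c₁ • a)
    rw [hk', Units.val_mul, ← mulVec_mulVec, mulVec_smul, mulVec_inv_mulVec, ← he₁, mulVec_add,
      mulVec_smul, hua, qe_mulVec C.uf haa hz₀a, hea, he₁', hc₁]
    module
  obtain ⟨hT', h22, h2a⟩ := moved k' hk'M hk'i hk'a
  rw [he₂] at hT' h22 h2a
  have hc₁s : c₁ + σ c₁ = 0 := by
    simpa [C.uf.add_left, C.uf.smul_left, hadd_right C.uf, hsmul_right C.uf, hee, haa, hea, hae,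
      add_comm] using h22
  have hc₁0 : c₁ = 0 := by
    have h := diff _ h22 h2a hT'
    have e2 : qe f a ((μ - 1) • (e - (e + c₁ • a))) ((μ - 1) ^ 2 * f e (e + c₁ • a)) =
        ut f a ((1 - μ ^ 2) * c₁) := by
      refine gl_ext fun x => ?_
      rw [qe_mulVec C.uf haa (by rw [C.uf.smul_left, hsub_left C.uf, h2a, hea, sub_self,
        mul_zero]), ut_mulVec C.uf haa]
      simp only [hsmul_right C.uf, hsub_right C.uf, hadd_right C.uf, hee, hea,
        eq_neg_of_add_eq_zero_right hc₁s, map_sub, map_one, hμσ]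
      match_scalars <;> ring
    rw [e2] at h
    have h0 := no_ut C hM hN ha ha0 haa (by
      rw [map_mul, map_sub, map_pow, map_one, hμσ]
      linear_combination (1 - μ ^ 2) * hc₁s) h
    exact (mul_eq_zero.mp h0).resolve_left (sub_ne_zero.mpr (Ne.symm hμ2))
  rw [hc₁0, zero_smul, add_zero] at he₂
  have hll : σ l * l ∈ F₀ := (C.idx.mem_iff _).mpr (by rw [map_mul, C.idx.invol, mul_comm])
  intro x hx
  obtain ⟨hbr, hba, hbe⟩ := rat_decomp C ha he haa hee hea hx
  set b := x - f x e • a - f x a • e with hbdef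
  have hb' : Rat F₀ P (σ l • (k' ◆ b)) := by
    obtain ⟨-, c, hcb, hcM⟩ := inA_rat C hM ha haa hbr hba
    have h := mul_mem (mul_mem hk'M hcM) (inv_mem hk'M)
    rw [qe_conj C.uf haa hba c hk'i, hk'a] at h
    have hza : f (k' ◆ b) a = 0 := by
      have h1 := mem_isom.mp hk'i b a
      rw [hk'a, hsmul_right C.uf, hba] at h1
      exact (mul_eq_zero.mp h1).resolve_left hl'
    rw [qe_smul C.uf haa hza] at h
    have hy : InA σ f M a (σ l • (k' ◆ b)) := by
      refine ⟨by rw [C.uf.smul_left, hza, mul_zero], _, ?_, h⟩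
      rw [C.uf.smul_left, hsmul_right C.uf, mem_isom.mp hk'i, C.uf.involutive, map_mul, map_mul,
        C.uf.involutive]
      linear_combination (l * σ l) * hcb
    obtain ⟨y₀, hy₀, -, t, ht⟩ := inA_rigid C hM hN ha ha0 haa hy
    have h1 : f (σ l • (k' ◆ b)) e = 0 := by
      have h2 := mem_isom.mp hk'i b e
      rw [hbe] at h2
      have h3 : f (k' ◆ b) (σ l • (k' ◆ e)) = l * f (k' ◆ b) (k' ◆ e) := by
        rw [hsmul_right C.uf, C.uf.involutive]
      rw [he₂, h2, mul_zero] at h3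
      rw [C.uf.smul_left, h3, mul_zero]
    rw [ht, C.uf.add_left, C.uf.smul_left, hae, mul_one] at h1
    rw [ht, eq_neg_of_add_eq_zero_right h1]
    exact rat_add hy₀ (rat_smul (neg_mem (C.rat y₀ e hy₀ he)) ha)
  have hX : Rat F₀ P (σ l • (k' ◆ x)) := by
    have : σ l • (k' ◆ x) =
        (f x e * (σ l * l)) • a + f x a • e + σ l • (k' ◆ b) := by
      conv_lhs => rw [show x = f x e • a + f x a • e + b by rw [hbdef]; abel]
      rw [mulVec_add, mulVec_add, mulVec_smul, mulVec_smul, hk'a, smul_add, smul_add,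
        smul_comm (σ l) (f x a), he₂]
      module
    rw [this]
    exact rat_add (rat_add (rat_smul (mul_mem (C.rat x e hx he) hll) ha)
      (rat_smul (C.rat x a hx ha) he)) hb'
  have : σ l • (k ◆ x) = qe f a z₀ β ◆ (σ l • (k' ◆ x)) := by
    rw [hk', Units.val_mul, ← mulVec_mulVec, mulVec_smul, mulVec_inv_mulVec]
  rw [this, qe_mulVec C.uf haa hz₀a]
  exact rat_add (rat_sub (rat_add hX (rat_smul (C.rat _ a hX ha) hz₀r))
    (rat_smul (C.rat _ z₀ hX hz₀r) ha)) (rat_smul (mul_mem hβF (C.rat _ a hX ha)) ha)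

/-- A scalar occurring on a Siegel group at a rational singular point is real. -/
theorem real_of_inA {a z : ι → F} (ha : Rat F₀ P a) (ha0 : a ≠ 0) (haa : f a a = 0)
    (hz : Rat F₀ P z) (hza : f z a = 0) (hzz : f z z ≠ 0) {r : F}
    (h : InA σ f M a (r • z)) : r ∈ F₀ := by
  obtain ⟨x, hx, -, s, hs⟩ := inA_rigid C hM hN ha ha0 haa h
  have h1 := congrArg (fun v => f v z) hs
  simp only [C.uf.add_left, C.uf.smul_left, hswap_zero C.uf hza, mul_zero, add_zero] at h1
  have := mul_mem (C.rat x z hx hz) (inv_mem (C.rat z z hz hz))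
  rwa [← h1, mul_inv_cancel_right₀ hzz] at this

/-- Elements fixing the orthogonal complement of a rational hyperbolic line are rigid. -/
theorem key {a e : ι → F} (ha : Rat F₀ P a) (he : Rat F₀ P e) (ha0 : a ≠ 0) (haa : f a a = 0)
    (hee : f e e = 0) (hea : f e a = 1) {m : GL ι F} (hm : m ∈ M) (hmi : m ∈ isom f)
    (hfix : ∀ z, Rat F₀ P z → f z a = 0 → f z e = 0 → m ◆ z = z) :
    σ (f a (m ◆ a)) = f a (m ◆ a) := by
  obtain ⟨ν, hν, hν0, hν4⟩ := C.big
  set μ := ν ^ 2 with hμν
  have hμ : μ ∈ F₀ := pow_mem hν 2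
  have hμ0 : μ ≠ 0 := pow_ne_zero 2 hν0
  have hμ2 : μ ^ 2 ≠ 1 := fun h => hν4 (by linear_combination h)
  have hμσ := fix C hμ
  have hae : f a e = 1 := by rw [← symm C ha he, hea]
  have he0 : e ≠ 0 := fun h => one_ne_zero (α := F) (by rw [← hea, h, hzero_left C.uf])
  have hM' := mem_isom.mp hmi
  have expand : ∀ v, (∀ z, Rat F₀ P z → f z a = 0 → f z e = 0 → f z v = 0) →
      v = f v e • a + f v a • e := by
    intro v hv
    refine sub_eq_zero.mp (eq_zero_of_perp C fun X hX => ?_)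
    obtain ⟨hbr, hba, hbe⟩ := rat_decomp C ha he haa hee hea hX
    have h := hv _ hbr hba hbe
    simp only [hsub_left C.uf, C.uf.smul_left] at h
    rw [hsub_right C.uf, hadd_right C.uf, hsmul_right C.uf, hsmul_right C.uf, ← C.uf.herm,
      ← C.uf.herm]
    linear_combination h
  set p := m ◆ a with hp
  set p' := m ◆ e with hp'
  have hpp : f p p = 0 := by rw [hp, hM', haa]
  have hpe : p = f p e • a + f p a • e := expand p fun z hz hza hze => by
    conv_lhs => rw [← hfix z hz hza hze, hp, hM', hza]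
  have hpe' : p' = f p' e • a + f p' a • e := expand p' fun z hz hza hze => by
    conv_lhs => rw [← hfix z hz hza hze, hp', hM', hze]
  set x := f p e
  set y := f p a with hy
  set x' := f p' e
  set y' := f p' a
  have goal_of : σ y = y → σ (f a p) = f a p := fun h => by
    rw [C.uf.herm a p, ← hy, h, h]
  have hiso : x * σ y + y * σ x = 0 := by
    have h := hpp
    rw [hpe, C.uf.add_left, hadd_right C.uf, hadd_right C.uf] at h
    simpa [C.uf.smul_left, hsmul_right C.uf, haa, hee, hea, hae] using h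
  have hone : x * σ y' + y * σ x' = 1 := by
    have h : f p p' = 1 := by rw [hp, hp', hM', hae]
    rw [hpe, hpe', C.uf.add_left, hadd_right C.uf, hadd_right C.uf] at h
    simpa [C.uf.smul_left, hsmul_right C.uf, haa, hee, hea, hae] using h
  have hiso' : x' * σ y' + y' * σ x' = 0 := by
    have h : f p' p' = 0 := by rw [hp', hM', hee]
    rw [hpe', C.uf.add_left, hadd_right C.uf, hadd_right C.uf] at h
    simpa [C.uf.smul_left, hsmul_right C.uf, haa, hee, hea, hae] using h
  obtain ⟨z, hz, hzz, hza, hze⟩ := exists_perp_two C ha he haa hee hea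
  -- transporting a Siegel group by an element fixing `z`
  have transport : ∀ (k : GL ι F) (u : ι → F), k ∈ M → k ∈ isom f → Rat F₀ P u → f u u = 0 →
      ∀ z, Rat F₀ P z → f z u = 0 → k ◆ z = z → qe f (k ◆ u) z (-f z z / 2) ∈ M := by
    intro k u hk hki hu huu z hz hzu hkz
    have h := mul_mem (mul_mem hk (qe_mem C hM hu hz huu hzu)) (inv_mem hk)
    rwa [qe_conj C.uf huu hzu _ hki, hkz] at h
  by_cases hy0 : y = 0
  · exact goal_of (by simp [hy0])
  by_cases hx0 : x = 0
  · refine goal_of ?_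
    rw [hx0, zero_smul, zero_add] at hpe
    have h := transport m a hm hmi ha haa z hz hza (hfix z hz hza hze)
    rw [← hp, hpe, qe_smul C.uf hee hze] at h
    have h' : σ y ∈ F₀ := real_of_inA C hM hN he he0 hee hz hze hzz
      ⟨by rw [C.uf.smul_left, hze, mul_zero], _, by
        rw [C.uf.smul_left, hsmul_right C.uf, C.uf.involutive, map_mul, map_mul,
          C.uf.involutive]
        linear_combination (y * σ y) * SubfieldOrth.half_trace C.uf C.idx C.rat hz C.two, h⟩
    have := fix C h'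
    rw [C.uf.involutive] at this
    exact this.symm
  by_cases hx'0 : x' = 0
  · refine goal_of (fix C ?_)
    rw [hx'0, zero_smul, zero_add] at hpe'
    have hrat := rat_of_fix C hM hN he he0 hee hm hmi hpe'
    have h1 := hrat z hz
    rw [hfix z hz hza hze] at h1
    have hσy' := scal_real C hz (fun h => hzz (by rw [h, hzero_left C.uf])) h1
    have hσy'0 : σ y' ≠ 0 := (map_ne_zero σ).mpr fun h => by
      rw [h, zero_smul] at hpe'
      exact mulVec_ne_zero m he0 (hp' ▸ hpe')
    have h2 := rat_smul (inv_mem hσy') (hrat a ha)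
    rw [smul_smul, inv_mul_cancel₀ hσy'0, one_smul, ← hp] at h2
    exact C.rat p a h2 ha
  by_cases hy'0 : y' = 0
  · refine goal_of (fix C ?_)
    rw [hy'0, zero_smul, add_zero] at hpe'
    have h := transport m e hm hmi he hee z hz hze (hfix z hz hza hze)
    rw [← hp', hpe', qe_smul C.uf haa hza] at h
    have h' : σ x' ∈ F₀ := real_of_inA C hM hN ha ha0 haa hz hza hzz
      ⟨by rw [C.uf.smul_left, hza, mul_zero], _, by
        rw [C.uf.smul_left, hsmul_right C.uf, C.uf.involutive, map_mul, map_mul,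
          C.uf.involutive]
        linear_combination (x' * σ x') * SubfieldOrth.half_trace C.uf C.idx C.rat hz C.two, h⟩
    rw [hy'0, map_zero, mul_zero, zero_add] at hone
    rw [eq_inv_of_mul_eq_one_left hone]
    exact inv_mem h'
  exfalso
  set t := tor f a e ε μ with ht
  have htM : t ∈ M := tor_mem_rat C hM ha he haa hee hea hμ hμ0
  have hti : t ∈ isom f := (tor_mem_su C.uf haa hee (skew_eps C) hμσ).1
  have htz : ∀ z, f z a = 0 → f z e = 0 → t ◆ z = z := fun z h1 h2 => by
    rw [ht, tor_mulVec C.uf haa hee hea C.eps0 hμ0, h1, h2]; simp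
  have htp : ∀ u v : F, t ◆ (u • a + v • e) = (μ * u) • a + (μ⁻¹ * v) • e := fun u v => by
    rw [ht, tor_mulVec C.uf haa hee hea C.eps0 hμ0]
    simp only [C.uf.add_left, C.uf.smul_left, haa, hee, hae, hea]
    match_scalars <;> ring
  set p₃ := t ◆ p' with hp₃
  have hp₃e : p₃ = (μ * x') • a + (μ⁻¹ * y') • e := by rw [hp₃, hpe', htp]
  have hp₃p₃ : f p₃ p₃ = 0 := by rw [hp₃, mem_isom.mp hti, hp', hM', hee]
  set R := f p p₃ with hR
  have hRe : R = x * σ y' / μ + y * σ x' * μ := by
    rw [hR, hpe, hp₃e]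
    simp only [C.uf.add_left, C.uf.smul_left, hadd_right C.uf, hsmul_right C.uf, haa, hee, hea,
      hae, map_mul, map_inv₀, hμσ]
    field_simp
    ring
  have hone' : σ x * y' + σ y * x' = 1 := by simpa [C.uf.involutive] using congrArg σ hone
  have hreal : σ (y * σ x') = y * σ x' := by
    rw [map_mul, C.uf.involutive]
    linear_combination (-(σ y * x')) * hone + (x * σ y) * hiso' + (y * σ x') * hone' +
      (-(y' * σ x')) * hiso
  have hRσ : σ R = R := by
    have hreal2 : σ (x * σ y') = x * σ y' := by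
      have := congrArg σ hone
      rw [map_add, map_one, hreal] at this
      linear_combination this - hone
    rw [hRe, map_add, map_div₀, map_mul _ (y * σ x'), hreal, hreal2, hμσ]
  have htmz : ∀ z, Rat F₀ P z → f z a = 0 → f z e = 0 → (t * m) ◆ z = z := fun z hz h1 h2 => by
    rw [Units.val_mul, ← mulVec_mulVec, hfix z hz h1 h2, htz z h1 h2]
  by_cases hR0 : R = 0
  · -- `t p' ∝ p`
    set ζ := μ * x' / x with hζ
    have hp₃p : p₃ = ζ • p := by
      have h1 : x * y' = μ ^ 2 * (x' * y) := by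
        rw [hRe] at hR0
        field_simp at hR0
        have hσ : σ x' ≠ 0 := (map_ne_zero σ).mpr hx'0
        refine mul_left_cancel₀ hσ ?_
        linear_combination (-x') * hR0 + x * hiso'
      rw [hp₃e, hpe, hζ]
      match_scalars
      · field_simp
      · field_simp
        linear_combination h1
    have h1 := transport (t * m) e (mul_mem htM hm) (mul_mem hti hmi) he hee z hz hze
      (htmz z hz hza hze)
    rw [Units.val_mul, ← mulVec_mulVec, ← hp', ← hp₃, hp₃p] at h1
    have hzp : f z p = 0 := by rw [← hfix z hz hza hze, hp, hM', hza]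
    rw [qe_smul C.uf hpp hzp] at h1
    have h2 := mul_mem (mul_mem (inv_mem hm) h1) (inv_mem (inv_mem hm))
    rw [qe_conj C.uf hpp (by rw [C.uf.smul_left, hzp, mul_zero]) _ (inv_mem hmi),
      hp, inv_mulVec_mulVec, mulVec_smul] at h2
    have hmz : (m⁻¹ : GL ι F) ◆ z = z := by
      conv_lhs => rw [← hfix z hz hza hze, inv_mulVec_mulVec]
    rw [hmz] at h2
    have hζF : σ ζ ∈ F₀ := real_of_inA C hM hN ha ha0 haa hz hza hzz
      ⟨by rw [C.uf.smul_left, hza, mul_zero], _, by
        rw [C.uf.smul_left, hsmul_right C.uf, C.uf.involutive, map_mul, map_mul,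
          C.uf.involutive]
        linear_combination (ζ * σ ζ) * SubfieldOrth.half_trace C.uf C.idx C.rat hz C.two, h2⟩
    have hζσ : σ ζ = ζ := by
      have := fix C hζF
      rw [C.uf.involutive] at this
      exact this.symm
    have h3 : f (t ◆ p) p₃ = 1 := by rw [hp₃, mem_isom.mp hti, hp, hp', hM', hae]
    rw [hp₃p, hsmul_right C.uf, hζσ, hpe, htp] at h3
    simp only [C.uf.add_left, C.uf.smul_left, hadd_right C.uf, hsmul_right C.uf, haa, hee, hea,
      hae] at h3
    have h4 := congrArg σ h3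
    simp only [map_add, map_mul, map_inv₀, map_zero, map_one, C.uf.involutive, hμσ, hζσ] at h4
    exact C.two (by linear_combination (-1 : F) * h3 - h4 + ζ * (μ + μ⁻¹) * hiso)
  · set c := R⁻¹ • p₃ with hc
    have hcc : f c c = 0 := by rw [hc, C.uf.smul_left, hsmul_right C.uf, hp₃p₃]; simp
    have hcp : f c p = 1 := by
      rw [hc, C.uf.smul_left, C.uf.herm p₃ p, ← hR, hRσ, inv_mul_cancel₀ hR0]
    have hRF : R⁻¹ ∈ F₀ := inv_mem ((C.idx.mem_iff _).mpr hRσ)
    have hctm : (t * m) ◆ (R⁻¹ • e) = c := by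
      rw [hc, hp₃, mulVec_smul, Units.val_mul, ← mulVec_mulVec, hp']
    set z₁ := ν • z with hz₁def
    have hz₁ : Rat F₀ P z₁ := rat_smul hν hz
    have hz₁n : f z₁ z₁ = μ * f z z := by
      rw [hz₁def, C.uf.smul_left, hsmul_right C.uf, fix C hν, hμν]; ring
    have hz₁a : f z₁ a = 0 := by rw [hz₁def, C.uf.smul_left, hza, mul_zero]
    have hz₁e : f z₁ e = 0 := by rw [hz₁def, C.uf.smul_left, hze, mul_zero]
    have nmem : ∀ z, Rat F₀ P z → f z a = 0 → f z e = 0 → f z z ≠ 0 →
        siegel f p c z ∈ M ∧ f z p = 0 ∧ f z c = 0 := by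
      intro z hz hza hze hzz
      have h1 : qe f p z (-f z z / 2) ∈ M := transport m a hm hmi ha haa z hz hza (hfix z hz hza hze)
      have hg : (2 / f z z) ∈ F₀ := div_mem (ofNat_mem F₀ 2) (C.rat z z hz hz)
      have hz'r : Rat F₀ P ((2 / f z z) • z) := rat_smul hg hz
      have hze' : f z (R⁻¹ • e) = 0 := by rw [hsmul_right C.uf, hze, mul_zero]
      have h2 := transport (t * m) (R⁻¹ • e) (mul_mem htM hm) (mul_mem hti hmi)
        (rat_smul hRF he) (by rw [C.uf.smul_left, hsmul_right C.uf, hee]; simp) _ hz'r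
        (by rw [C.uf.smul_left, hze', mul_zero]) (by
          rw [mulVec_smul, htmz z hz hza hze])
      rw [hctm, show -f ((2 / f z z) • z) ((2 / f z z) • z) / 2 = -(2 / f z z) by
        rw [C.uf.smul_left, hsmul_right C.uf, fix C hg]; field_simp [C.two]] at h2
      refine ⟨mul_mem (mul_mem h1 h2) h1, by rw [← hfix z hz hza hze, hp, hM', hza], ?_⟩
      rw [← hctm, ← htmz z hz hza hze, mem_isom.mp (mul_mem hti hmi), hze']
    obtain ⟨hn1, hz₁p, hz₁c⟩ := nmem z₁ hz₁ hz₁a hz₁e (by rw [hz₁n]; exact mul_ne_zero hμ0 hzz)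
    obtain ⟨hn2, hzp', hzc'⟩ := nmem z hz hza hze hzz
    obtain ⟨a1, b1⟩ := siegel_apply C hpp hcc hcp hz₁p hz₁c (by rw [hz₁n]; exact mul_ne_zero hμ0 hzz)
    obtain ⟨a2, b2⟩ := siegel_apply C hpp hcc hcp hzp' hzc' hzz
    rw [hz₁n] at a1 b1
    set d := m⁻¹ * (siegel f p c z₁ * siegel f p c z) * m with hd
    have hdM : d ∈ M := mul_mem (mul_mem (inv_mem hm) (mul_mem hn1 hn2)) hm
    have hsi : ∀ z, Rat F₀ P z → f z z ≠ 0 → f z p = 0 → f z c = 0 → siegel f p c z ∈ isom f := by
      intro z hz hzz hzp hzc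
      have hg : (2 / f z z) ∈ F₀ := div_mem (ofNat_mem F₀ 2) (C.rat z z hz hz)
      have q1 := (qe_mem_su C.uf hpp hzp (SubfieldOrth.half_trace C.uf C.idx C.rat hz C.two)).1
      have q2 := (qe_mem_su C.uf hcc (z := (2 / f z z) • z) (b := -(2 / f z z))
        (by rw [C.uf.smul_left, hzc, mul_zero]) (by
          rw [map_neg, fix C hg, C.uf.smul_left, hsmul_right C.uf, fix C hg]
          field_simp
          ring)).1
      exact mul_mem (mul_mem q1 q2) q1
    have hdi : d ∈ isom f := mul_mem (mul_mem (inv_mem hmi)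
      (mul_mem (hsi z₁ hz₁ (by rw [hz₁n]; exact mul_ne_zero hμ0 hzz) hz₁p hz₁c)
        (hsi z hz hzz hzp' hzc'))) hmi
    have h2' := C.two
    have hda : d ◆ a = μ • a := by
      rw [hd, Units.val_mul, Units.val_mul, ← mulVec_mulVec, ← mulVec_mulVec, ← hp, Units.val_mul,
        ← mulVec_mulVec, a2, mulVec_smul, b1, smul_smul, mulVec_smul, hp, inv_mulVec_mulVec]
      congr 1
      field_simp
    have hdr := rat_of_fix C hM hN ha ha0 haa hdM hdi hda
    rw [hμσ] at hdr
    set qv := (m⁻¹ : GL ι F) ◆ c with hqv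
    have hdq : d ◆ qv = μ⁻¹ • qv := by
      rw [hd, Units.val_mul, Units.val_mul, ← mulVec_mulVec, ← mulVec_mulVec, hqv,
        mulVec_inv_mulVec, Units.val_mul, ← mulVec_mulVec, b2, mulVec_smul, a1, smul_smul,
        mulVec_smul]
      congr 1
      field_simp
    have hqa : f qv a = 1 := by
      rw [← hcp, hp, ← mulVec_inv_mulVec m c, hM', ← hqv]
    have hqe : qv = f qv e • a + e := by
      conv_lhs => rw [expand qv fun z hz hza hze => by
        rw [← hM' z qv, hfix z hz hza hze, hqv, mulVec_inv_mulVec, ← hctm, ← htmz z hz hza hze,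
          mem_isom.mp (mul_mem hti hmi), hsmul_right C.uf, hze, mul_zero]]
      rw [hqa, one_smul]
    set x'' := f qv e
    have hx''s : x'' + σ x'' = 0 := by
      have h : f qv qv = 0 := by
        rw [← hM' qv qv, hqv, mulVec_inv_mulVec, hcc]
      rw [hqe] at h
      simp only [C.uf.add_left, C.uf.smul_left, hadd_right C.uf, hsmul_right C.uf, haa, hee, hea,
        hae] at h
      linear_combination h
    have hde : μ • (d ◆ e) = e + (x'' * (1 - μ ^ 2)) • a := by
      have h := congrArg (fun v => μ • v) hdq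
      simp only [smul_smul, mul_inv_cancel₀ hμ0, one_smul] at h
      rw [hqe, mulVec_add, mulVec_smul, hda, smul_add] at h
      rw [eq_sub_of_add_eq' h]
      module
    have h5 := rat_sub (hdr e he) he
    rw [hde, add_sub_cancel_left] at h5
    have h6 := scal_real C ha ha0 h5
    have h7 : x'' ∈ F₀ := by
      have h8 := mul_mem h6 (inv_mem (sub_mem (one_mem F₀) (pow_mem hμ 2)))
      rwa [mul_inv_cancel_right₀ (sub_ne_zero.mpr (Ne.symm hμ2))] at h8
    rw [fix C h7] at hx''s
    have hx''0 : x'' = 0 := (mul_eq_zero.mp (show (2 : F) * x'' = 0 by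
      linear_combination hx''s)).resolve_left C.two
    rw [hx''0, zero_smul, zero_add] at hqe
    have hcp' : R⁻¹ • p₃ = p' := by rw [hp', ← hqe, hqv, mulVec_inv_mulVec]
    rw [hp₃e, hpe'] at hcp'
    have e1 := congrArg (fun v => f v e) hcp'
    have e2 := congrArg (fun v => f v a) hcp'
    simp only [C.uf.add_left, C.uf.smul_left, haa, hee, hea, hae] at e1 e2
    simp only [mul_zero, mul_one, zero_add, add_zero] at e1 e2
    field_simp at e1 e2
    exact hμ2 (by
      have h1 : μ = R := by linear_combination e1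
      have h2 : μ * R = 1 := by linear_combination -e2
      rw [← h1] at h2
      linear_combination h2)

end Cfsg.Agent.SU3Geo98.Orth
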